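import Cfsg.Agent.H238.LocTwo

/-!
# An element of order 5 commuting with an `SL₃(2)` in `E₈(q)`, `q` even (helper831)

`Ten e` : the relations of `SL₄(2)`; `has5_e8 : Has 5 ↥(chevE8.group F)`.
-/

set_option autoImplicit false
set_option linter.unusedSectionVars false

namespace Cfsg.Agent.H831.LP

open scoped commutatorElement
open Matrix Cfsg Cfsg.Lie Cfsg.Agent.AGraded Cfsg.Agent.CTFrame.Weyl Cfsg.Agent.CTFrame.Torus
open Cfsg.Agent.H238 Cfsg.Agent.H238.LocTwo

universe u

/-- the relations of `SL₄(2)` -/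
structure Ten {G : Type u} [Group G] (e : Fin 4 → Fin 4 → G) : Prop where
  sq : ∀ i j, i ≠ j → e i j * e i j = 1
  comm : ∀ i j k l, i ≠ j → k ≠ l → j ≠ k → i ≠ l → e i j * e k l = e k l * e i j
  br : ∀ i j k, i ≠ j → j ≠ k → i ≠ k → ⁅e i j, e j k⁆ = e i k

/-- the family over `ZMod 2` -/
def fam4 {G : Type u} [Group G] (e : Fin 4 → Fin 4 → G) (i j : Fin 4) (a : ZMod 2) : G := if a = 0 then 1 else e i j

variable {G : Type u} [Group G] {e : Fin 4 → Fin 4 → G}

theorem fam4_zero (i j : Fin 4) : fam4 e i j 0 = 1 := if_pos rfl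
theorem fam4_one (i j : Fin 4) : fam4 e i j 1 = e i j := if_neg (by decide)

theorem Ten.stein (h : Ten e) : SteinRel (fam4 e) where
  add := by
    intro i j hij a b
    rcases zmod_two a with rfl | rfl <;> rcases zmod_two b with rfl | rfl
    · rw [add_zero, fam4_zero, one_mul]
    · rw [zero_add, fam4_zero, one_mul]
    · rw [add_zero, fam4_zero, mul_one]
    · rw [show (1 : ZMod 2) + 1 = 0 from by decide, fam4_zero, fam4_one, h.sq i j hij]
  comm := by
    intro i j k l hij hkl hjk hil a b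
    rcases zmod_two a with rfl | rfl <;> rcases zmod_two b with rfl | rfl
    · rw [fam4_zero, fam4_zero]
    · rw [fam4_zero, one_mul, mul_one]
    · rw [fam4_zero, one_mul, mul_one]
    · rw [fam4_one, fam4_one, h.comm i j k l hij hkl hjk hil]
  br := by
    intro i j k hij hjk hik a b
    rcases zmod_two a with rfl | rfl <;> rcases zmod_two b with rfl | rfl
    · rw [zero_mul, fam4_zero, fam4_zero, fam4_zero, commutatorElement_one_left]
    · rw [zero_mul, fam4_zero, fam4_zero, commutatorElement_one_left]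
    · rw [mul_zero, fam4_zero, fam4_zero, commutatorElement_one_right]
    · rw [one_mul, fam4_one, fam4_one, fam4_one, h.br i j k hij hjk hik]

theorem Ten.hrel (h : Ten e) : HRel (fam4 e) := by
  intro i j hij a b ha hb
  rcases zmod_two a with rfl | rfl
  · exact absurd rfl ha
  rcases zmod_two b with rfl | rfl
  · exact absurd rfl hb
  have h1 : t (fam4 e) i j 1 = 1 := by
    unfold t w
    have e1 : (-1 : ZMod 2) = 1 := by decide
    rw [e1, inv_one, e1, fam4_one, fam4_one]
    calc e i j * e j i * e i j * (e i j * e j i * e i j) = e i j * (e j i * (e i j * e i j) * e j i) * e i j := by group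
      _ = 1 := by rw [h.sq i j hij, mul_one, h.sq j i hij.symm, mul_one, h.sq i j hij]
  rw [one_mul, h1, one_mul]

/-- the group generated -/
def grp4 (e : Fin 4 → Fin 4 → G) : Subgroup G := Subgroup.closure {g | ∃ i j, i ≠ j ∧ g = e i j}

/-- an element of order 5 of `SL₄(2)` -/
def g5 : SpecialLinearGroup (Fin 4) (ZMod 2) := ⟨!![0,0,0,1;1,0,0,1;0,1,0,1;0,0,1,1], by decide +kernel⟩

/-- another element -/
def g4 : SpecialLinearGroup (Fin 4) (ZMod 2) := ⟨!![1,1,0,0;0,1,0,0;0,0,1,0;0,0,0,1], by decide +kernel⟩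

theorem g5_pow : g5 ^ 5 = 1 := by decide +kernel

theorem g5_not_mem : g5 ∉ Subgroup.center (SpecialLinearGroup (Fin 4) (ZMod 2)) := by
  intro h
  have := (Subgroup.mem_center_iff.1 h) g4
  revert this
  decide +kernel

/-- an element of order 5 -/
theorem Ten.exists_elt (h : Ten e) {i j : Fin 4} (hij : i ≠ j) (hne : e i j ≠ 1) :
    ∃ x ∈ grp4 e, x ^ 5 = 1 ∧ x ≠ 1 := by
  obtain ⟨π, -, h2, h3⟩ := Cfsg.Agent.CTFrame.Hom.exists_hom h.stein h.hrel (by simp)
  have h4 := h3 ⟨i, j, hij, 1, by rwa [fam4_one]⟩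
  have h5 : π.range ≤ grp4 e := by
    rw [h2, Subgroup.closure_le]
    rintro _ ⟨a, b, hab, c, rfl⟩
    rcases zmod_two c with rfl | rfl
    · rw [fam4_zero]; exact one_mem _
    · rw [fam4_one]; exact Subgroup.subset_closure ⟨a, b, hab, rfl⟩
  exact ⟨π g5, h5 ⟨_, rfl⟩, by rw [← map_pow, g5_pow, map_one], fun h6 => g5_not_mem (h4 h6)⟩

/-- the table of an `A₃` -/
def tT : Fin 4 → Fin 4 → ℕ := ![![0, 126, 127, 4], ![113, 0, 123, 3], ![112, 116, 0, 2], ![235, 236, 237, 0]]

variable (F : Type u) [Field F] [CharP F 2]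

/-- **an element of order 5 commuting with a perfect group** -/
theorem has5_e8 : Has 5 ↥(chevE8.group F) := by
  have hD : Cfsg.Agent.ChevalleyStructure.Elts.InList chevE8 := by simp
  have hA : okSix chevE8 (tab 162 135 163 77 104 76) = true := by decide +kernel
  have hT : Ten fun i j => el hD F (tT i j) := by
    have c1 : ∀ i j k l : Fin 4, i ≠ j → k ≠ l → j ≠ k → i ≠ l → okC chevE8 (tT i j) (tT k l) = true := by
      decide +kernel
    have c2 : ∀ i j k : Fin 4, i ≠ j → j ≠ k → i ≠ k → okB chevE8 (tT j k) (tT i j) (tT i k) = true := by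
      decide +kernel
    exact ⟨fun i j _ => el_sq hD F _, fun i j k l h1 h2 h3 h4 => el_comm hD F (c1 i j k l h1 h2 h3 h4),
      fun i j k h1 h2 h3 => el_br hD F (c2 i j k h1 h2 h3)⟩
  obtain ⟨x, hx, hx5, hx1⟩ := hT.exists_elt (i := 0) (j := 1) (by decide) (el_ne hD F (by decide +kernel))
  have hC : ∀ (i j : Fin 4) (k l : Fin 3), i ≠ j → k ≠ l →
      okC chevE8 (tT i j) (tab 162 135 163 77 104 76 k l) = true := by decide +kernel
  refine ⟨x, grp6 fun i j => el hD F (tab 162 135 163 77 104 76 i j), hx5, hx1, ?_, (six hD F hA).perfect,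
    grp6_ne (el_ne hD F (by decide +kernel))⟩
  have h1 : (grp4 fun i j => el hD F (tT i j)) ≤
      Subgroup.centralizer (gen6 fun i j => el hD F (tab 162 135 163 77 104 76 i j)) := by
    rw [grp4, Subgroup.closure_le]
    rintro _ ⟨i, j, hij, rfl⟩
    rw [SetLike.mem_coe, Subgroup.mem_centralizer_iff]
    rintro _ ⟨k, l, hkl, rfl⟩
    exact (el_comm hD F (hC i j k l hij hkl)).symm
  rw [grp6, Subgroup.closure_le]
  intro b hb
  rw [SetLike.mem_coe, Subgroup.mem_centralizer_singleton_iff]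
  exact (Subgroup.mem_centralizer_iff.1 (h1 hx)) b hb

end Cfsg.Agent.H831.LP
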